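import Cfsg.Agent.Lib.Helper71.SUG2.Defs

/-!
# SUG2 (S2412 block [II]) package [II-DIAG]: diagonal matrices of determinant 1 lie in `SU_n(2)`.
-/

set_option autoImplicit false
open scoped Matrix

namespace Cfsg.Agent.Lib.Helper42.SUG2

open Cfsg.Agent.Lib.Helper71.SUG2

universe u

/-- A diagonal matrix with entries cube roots of unity and determinant `1` is in `SU`. -/
theorem exists_su_diag {F : Type u} [Field F] (n : ℕ) (δ : Fin n → F)
    (h3 : ∀ i, δ i ^ 3 = 1) (hprod : ∏ i, δ i = 1) :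
    ∃ d : ↥(Cfsg.SU n F 2), smat d = Matrix.diagonal δ := by
  have hdet : (Matrix.diagonal δ).det = 1 := by rw [Matrix.det_diagonal, hprod]
  refine ⟨⟨⟨Matrix.diagonal δ, hdet⟩, ?_⟩, rfl⟩
  intro x y
  show Cfsg.hermForm n F 2 (Matrix.diagonal δ *ᵥ x) (Matrix.diagonal δ *ᵥ y)
    = Cfsg.hermForm n F 2 x y
  unfold Cfsg.hermForm
  apply Finset.sum_congr rfl
  intro i _
  rw [Matrix.mulVec_diagonal, Matrix.mulVec_diagonal]
  have := h3 i
  linear_combination (x i * y i ^ 2) * this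

/-- [II-DIAG]. -/
theorem pkgDiag : PkgDiag.{u} := by
  intro F _ _ hF n δ hδ hprod
  exact exists_su_diag n δ (fun i => f4_cube hF (δ i) (hδ i)) hprod

end Cfsg.Agent.Lib.Helper42.SUG2
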