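import Cfsg.Agent.Lib.Helper71.SUG2.Defs

/-!
# SUG2 (S2412 block [II]) package [II-SHIFT]: the cyclic shift lies in `SU_n(2)`.
-/

set_option autoImplicit false
open scoped Matrix

namespace Cfsg.Agent.Lib.Helper42.SUG2

open Cfsg.Agent.Lib.Helper71.SUG2

universe u

/-- The permutation matrix of a permutation `σ` acts by `v ↦ v ∘ σ`, has determinant `1` in
characteristic 2, and preserves the hermitian form: it gives an element of `SU`. -/
theorem exists_su_perm {F : Type u} [Field F] (h2 : (2 : F) = 0) (n : ℕ) (σ : Equiv.Perm (Fin n)) :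
    ∃ c : ↥(Cfsg.SU n F 2), ∀ v : Fin n → F, smat c *ᵥ v = v ∘ σ := by
  have hneg : (-1 : F) = 1 := by
    have : (1 : F) + 1 = 0 := by rw [one_add_one_eq_two]; exact h2
    linear_combination -this
  have hdet : (σ.permMatrix F).det = 1 := by
    rw [Matrix.det_permutation]
    rcases Int.units_eq_one_or (Equiv.Perm.sign σ) with h | h
    · rw [h]; simp
    · rw [h]; simp [hneg]
  have hmv : ∀ v : Fin n → F, σ.permMatrix F *ᵥ v = v ∘ σ := fun v => Matrix.permMatrix_mulVec σ
  refine ⟨⟨⟨σ.permMatrix F, hdet⟩, ?_⟩, ?_⟩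
  · intro x y
    show Cfsg.hermForm n F 2 (σ.permMatrix F *ᵥ x) (σ.permMatrix F *ᵥ y) = Cfsg.hermForm n F 2 x y
    rw [hmv, hmv]
    unfold Cfsg.hermForm
    exact Equiv.sum_comp σ (fun i => x i * y i ^ 2)
  · intro v
    exact hmv v

/-- [II-SHIFT]. -/
theorem pkgShift : PkgShift.{u} := by
  intro F _ _ hF n
  exact exists_su_perm (f4_two hF) n (finRotate n).symm

end Cfsg.Agent.Lib.Helper42.SUG2
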